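import Mathlib
import Groth.Agent.Lib.Helper8.Hens.IntegralHens

/-!
# Roots of unity and roots of units in henselian local rings with algebraically closed residue
field; Eisenstein polynomials over a DVR; tame Kummer / Eisenstein splitting fields (S16052, S16053).
-/

universe u
open Polynomial IsLocalRing

namespace Groth.Agent.H8.Tame

section Hensel

variable {A : Type u} [CommRing A] [HenselianLocalRing A]

/-- Hensel: `n`-th roots of units near approximate roots, `n` a unit. -/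
theorem exists_pow_eq (n : ℕ) (hn : n ≠ 0) (hnu : IsUnit (n : A)) (v a₀ : A) (hv : IsUnit v)
    (h : a₀ ^ n - v ∈ maximalIdeal A) : ∃ w : A, w ^ n = v ∧ w - a₀ ∈ maximalIdeal A := by
  have ha₀ : IsUnit a₀ := by
    rw [← notMem_maximalIdeal]
    intro hmem
    have h1 : a₀ ^ n ∈ maximalIdeal A := Ideal.pow_mem_of_mem _ hmem n (Nat.pos_of_ne_zero hn)
    have h2 : v ∈ maximalIdeal A := by
      have := (maximalIdeal A).sub_mem h1 h
      simpa using this
    exact (notMem_maximalIdeal.2 hv) h2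
  have hd : (derivative (X ^ n - C v : A[X])).eval a₀ = (n : A) * a₀ ^ (n - 1) := by
    simp only [derivative_sub, derivative_C, sub_zero, derivative_X_pow, eval_mul, eval_C,
      eval_pow, eval_X]
  obtain ⟨w, hw, hw'⟩ := HenselianLocalRing.is_henselian (X ^ n - C v : A[X])
    (monic_X_pow_sub_C v hn) a₀ (by simpa using h) (by rw [hd]; exact hnu.mul (ha₀.pow _))
  refine ⟨w, ?_, hw'⟩
  have := hw
  simp only [IsRoot.def, eval_sub, eval_pow, eval_X, eval_C] at this
  exact sub_eq_zero.1 this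

/-- Hensel for a perturbation of `X ^ e - 1`. -/
theorem exists_root_perturb (e : ℕ) (he : 0 < e)
    (heu : IsUnit (e : A)) (a : ℕ → A) (ha0 : a 0 = -1)
    (ha : ∀ i, 1 ≤ i → a i ∈ maximalIdeal A) :
    ∃ z : A, z ^ e + ∑ i ∈ Finset.range e, a i * z ^ i = 0 := by
  set h : A[X] := X ^ e + ∑ i ∈ Finset.range e, C (a i) * X ^ i with hh
  have hhmon : h.Monic := by
    apply monic_X_pow_add
    refine lt_of_le_of_lt (degree_sum_le _ _) ((Finset.sup_lt_iff (WithBot.bot_lt_coe e)).2 ?_)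
    intro i hi
    exact (degree_C_mul_X_pow_le _ _).trans_lt (Nat.cast_lt.2 (Finset.mem_range.1 hi))
  have hev : ∀ z : A, h.eval z = z ^ e + ∑ i ∈ Finset.range e, a i * z ^ i := by
    intro z
    simp only [hh, eval_add, eval_pow, eval_X, eval_finset_sum, eval_mul, eval_C]
  have hsplit : ∀ F : ℕ → A,
      ∑ i ∈ Finset.range e, F i = F 0 + ∑ i ∈ Finset.Ico 1 e, F i := by
    intro F
    rw [Finset.range_eq_Ico, Finset.sum_eq_sum_Ico_succ_bot he]
  have hev1 : h.eval 1 ∈ maximalIdeal A := by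
    rw [hev, hsplit, ha0]
    simp only [one_pow, mul_one]
    rw [add_neg_cancel_left]
    exact Ideal.sum_mem _ fun i hi => ha i (Finset.mem_Ico.1 hi).1
  have hder : h.derivative.eval 1 = (e : A) + ∑ i ∈ Finset.Ico 1 e, a i * (i : A) := by
    have : h.derivative.eval 1 = (e : A) + ∑ i ∈ Finset.range e, a i * (i : A) := by
      simp only [hh, derivative_add, derivative_X_pow, derivative_sum, derivative_C_mul_X_pow,
        eval_add, eval_mul, eval_C, eval_pow, eval_X, eval_finset_sum, one_pow, mul_one]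
    rw [this, hsplit]
    simp
  have hunit : IsUnit (h.derivative.eval 1) := by
    rw [hder]
    by_contra hnu
    have hm1 : (e : A) + ∑ i ∈ Finset.Ico 1 e, a i * (i : A) ∈ maximalIdeal A :=
      (mem_maximalIdeal _).2 hnu
    have hm2 : ∑ i ∈ Finset.Ico 1 e, a i * (i : A) ∈ maximalIdeal A :=
      Ideal.sum_mem _ fun i hi => Ideal.mul_mem_right _ _ (ha i (Finset.mem_Ico.1 hi).1)
    have : (e : A) ∈ maximalIdeal A := by
      have := (maximalIdeal A).sub_mem hm1 hm2
      simpa using this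
    exact (notMem_maximalIdeal.2 heu) this
  obtain ⟨z, hz, -⟩ := HenselianLocalRing.is_henselian h hhmon 1 hev1 hunit
  exact ⟨z, by rw [← hev]; exact hz⟩

variable (p : ℕ) [CharP (ResidueField A) p]

theorem isUnit_natCast (n : ℕ) (hpn : ¬ p ∣ n) : IsUnit (n : A) := by
  rw [← residue_ne_zero_iff_isUnit, map_natCast]
  exact fun h => hpn ((CharP.cast_eq_zero_iff (ResidueField A) p n).1 h)

theorem exists_root_unit [IsAlgClosed (ResidueField A)] (n : ℕ) (hn : n ≠ 0) (hpn : ¬ p ∣ n)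
    (v : A) (hv : IsUnit v) : ∃ w : A, w ^ n = v := by
  obtain ⟨z, hz⟩ := IsAlgClosed.exists_pow_nat_eq (residue A v) (Nat.pos_of_ne_zero hn)
  obtain ⟨a₀, rfl⟩ := residue_surjective z
  obtain ⟨w, hw, -⟩ := exists_pow_eq n hn (isUnit_natCast p n hpn) v a₀ hv (by
    rw [← residue_eq_zero_iff, map_sub, map_pow, hz, sub_self])
  exact ⟨w, hw⟩

theorem exists_primitiveRoot [IsAlgClosed (ResidueField A)] (n : ℕ) (hn : n ≠ 0)
    (hpn : ¬ p ∣ n) : ∃ ζ : A, IsPrimitiveRoot ζ n := by
  haveI : NeZero ((n : ℕ) : ResidueField A) :=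
    ⟨fun h => hpn ((CharP.cast_eq_zero_iff (ResidueField A) p n).1 h)⟩
  obtain ⟨z, hz⟩ := HasEnoughRootsOfUnity.exists_primitiveRoot (ResidueField A) n
  obtain ⟨a₀, rfl⟩ := residue_surjective z
  obtain ⟨ζ, hζ, hζ'⟩ := exists_pow_eq n hn (isUnit_natCast p n hpn) 1 a₀ isUnit_one (by
    rw [← residue_eq_zero_iff, map_sub, map_pow, hz.pow_eq_one, map_one, sub_self])
  have hres : residue A ζ = residue A a₀ := by
    rw [← sub_eq_zero, ← map_sub, residue_eq_zero_iff]
    exact hζ'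
  refine ⟨ζ, (IsPrimitiveRoot.iff_def _ _).2 ⟨hζ, fun l hl => ?_⟩⟩
  apply hz.dvd_of_pow_eq_one
  rw [← hres, ← map_pow, hl, map_one]

end Hensel

section DVR

variable {O : Type u} [CommRing O] [IsDomain O] [IsDiscreteValuationRing O]
variable (K : Type*) [Field K] [Algebra O K] [IsFractionRing O K]

theorem irreducible_map_of_eisenstein (f : O[X]) (hm : f.Monic) (hdeg : 0 < f.natDegree)
    (hf : f.IsEisensteinAt (maximalIdeal O)) : Irreducible (f.map (algebraMap O K)) := by
  have h1 : Irreducible f :=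
    hf.irreducible (maximalIdeal.isMaximal O).isPrime hm.isPrimitive hdeg
  exact (hm.irreducible_iff_irreducible_map_fraction_map).1 h1

theorem isEisensteinAt_X_pow_sub_C (c : O) (hc : c ∈ maximalIdeal O)
    (hc2 : c ∉ maximalIdeal O ^ 2) (n : ℕ) (hn : n ≠ 0) :
    (X ^ n - C c : O[X]).IsEisensteinAt (maximalIdeal O) := by
  have hmon := monic_X_pow_sub_C c hn
  refine ⟨?_, ?_, ?_⟩
  · rw [hmon.leadingCoeff]
    exact fun h => (Ideal.ne_top_iff_one _).1 (maximalIdeal.isMaximal O).ne_top h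
  · intro k hk
    rw [natDegree_X_pow_sub_C] at hk
    rw [coeff_sub, coeff_X_pow, coeff_C, if_neg hk.ne]
    split_ifs <;> simp [hc]
  · rw [coeff_sub, coeff_X_pow, coeff_C_zero, if_neg hn.symm, zero_sub, neg_mem_iff]
    exact hc2

theorem irreducible_X_pow_sub_C (c : O) (hc : c ∈ maximalIdeal O)
    (hc2 : c ∉ maximalIdeal O ^ 2) (n : ℕ) (hn : n ≠ 0) :
    Irreducible (X ^ n - C (algebraMap O K c) : K[X]) := by
  have := irreducible_map_of_eisenstein K _ (monic_X_pow_sub_C c hn)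
    (by rw [natDegree_X_pow_sub_C]; exact Nat.pos_of_ne_zero hn)
    (isEisensteinAt_X_pow_sub_C c hc hc2 n hn)
  simpa using this

theorem notMem_sq_of_irreducible (ϖ : O) (hϖ : Irreducible ϖ) : ϖ ∉ maximalIdeal O ^ 2 := by
  rw [(IsDiscreteValuationRing.irreducible_iff_uniformizer ϖ).1 hϖ, Ideal.span_singleton_pow,
    Ideal.mem_span_singleton]
  rintro ⟨y, hy⟩
  have h0 : ϖ ≠ 0 := hϖ.ne_zero
  have : ϖ * 1 = ϖ * (ϖ * y) := by linear_combination hy
  exact hϖ.not_isUnit (IsUnit.of_mul_eq_one y (mul_left_cancel₀ h0 this).symm)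

theorem dvd_of_mem_of_notMem_sq (c : O) (hc : c ∈ maximalIdeal O)
    (hc2 : c ∉ maximalIdeal O ^ 2) (x : O) (hx : x ∈ maximalIdeal O) : c ∣ x := by
  obtain ⟨ϖ, hϖ⟩ := IsDiscreteValuationRing.exists_irreducible O
  have hm := (IsDiscreteValuationRing.irreducible_iff_uniformizer ϖ).1 hϖ
  rw [hm, Ideal.mem_span_singleton] at hc hx
  obtain ⟨u, rfl⟩ := hc
  have hu : IsUnit u := by
    by_contra hu
    apply hc2
    have hum : u ∈ maximalIdeal O := (mem_maximalIdeal u).2 hu
    rw [hm, Ideal.mem_span_singleton] at hum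
    obtain ⟨y, rfl⟩ := hum
    rw [hm, Ideal.span_singleton_pow, Ideal.mem_span_singleton]
    exact ⟨y, by ring⟩
  obtain ⟨y, rfl⟩ := hx
  obtain ⟨u', rfl⟩ := hu
  exact ⟨↑u'⁻¹ * y, by rw [mul_assoc, Units.mul_inv_cancel_left]⟩

end DVR

end Groth.Agent.H8.Tame
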