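import Mathlib
import Groth.Agent.Lib.Helper8.Tame.HensRoots

/-!
# Tame splitting fields over a henselian DVR with algebraically closed residue field
(S16052, S16053).
-/

universe u
open Polynomial IsLocalRing IntermediateField

namespace Groth.Agent.H8.Tame

set_option maxHeartbeats 800000 in
theorem main53 (O : Type u) [CommRing O] [IsDomain O]
    [IsDiscreteValuationRing O] [HenselianLocalRing O]
    [IsAlgClosed (IsLocalRing.ResidueField O)]
    (p : ℕ) [Fact p.Prime] [CharP (IsLocalRing.ResidueField O) p]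
    (f : O[X]) (hmon : f.Monic) (e : ℕ) (hdeg : f.natDegree = e) (he : 1 ≤ e) (hep : e < p)
    (hf : f.IsEisensteinAt (IsLocalRing.maximalIdeal O)) :
    Module.finrank (FractionRing O) (f.map (algebraMap O (FractionRing O))).SplittingField = e ∧
      IsCyclic (f.map (algebraMap O (FractionRing O))).Gal := by
  classical
  have he0 : e ≠ 0 := by omega
  have : NeZero e := ⟨he0⟩
  have hpe : ¬ p ∣ e := fun h => by
    have := Nat.le_of_dvd (by omega) h
    omega
  -- the constant `c = - f(0)`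
  obtain ⟨c, hcdef⟩ : ∃ c : O, c = - f.coeff 0 := ⟨_, rfl⟩
  have hc : c ∈ maximalIdeal O := by
    rw [hcdef, neg_mem_iff]
    exact hf.mem (by omega)
  have hc2 : c ∉ maximalIdeal O ^ 2 := by
    rw [hcdef, neg_mem_iff]
    exact hf.notMem
  have hc0 : c ≠ 0 := fun h => hc2 (h ▸ Ideal.zero_mem _)
  have hb : ∀ i, ∃ b : O, i < e → f.coeff i = c * b := by
    intro i
    by_cases hi : i < e
    · obtain ⟨b, hb⟩ := dvd_of_mem_of_notMem_sq c hc hc2 (f.coeff i) (hf.mem (by omega))
      exact ⟨b, fun _ => hb⟩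
    · exact ⟨0, fun h => absurd h hi⟩
  choose b hb using hb
  have hb0 : b 0 = -1 := by
    have h0 := hb 0 (by omega)
    have h1 : c * b 0 = c * (-1) := by
      rw [← h0, hcdef]
      ring
    exact mul_left_cancel₀ hc0 h1
  -- the ring `O₀ = O[t₀]`, `t₀ ^ e = c`
  have hgmon : (X ^ e - C c : O[X]).Monic := monic_X_pow_sub_C c he0
  have hgE : (X ^ e - C c : O[X]).IsEisensteinAt (maximalIdeal O) :=
    isEisensteinAt_X_pow_sub_C c hc hc2 e he0
  have hgirr : Irreducible (X ^ e - C c : O[X]) :=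
    hgE.irreducible (maximalIdeal.isMaximal O).isPrime hgmon.isPrimitive
      (by rw [natDegree_X_pow_sub_C]; omega)
  have : IsDomain (AdjoinRoot (X ^ e - C c : O[X])) := AdjoinRoot.isDomain_of_prime hgirr.prime
  have : Module.Finite O (AdjoinRoot (X ^ e - C c : O[X])) := hgmon.finite_adjoinRoot
  have : IsLocalRing (AdjoinRoot (X ^ e - C c : O[X])) :=
    Hens.isLocalRing_of_isDomain_of_finite O _
  have : HenselianLocalRing (AdjoinRoot (X ^ e - C c : O[X])) :=
    Hens.henselianLocalRing_of_finite O _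
  obtain ⟨φ, hφ⟩ : ∃ φ : O →+* AdjoinRoot (X ^ e - C c : O[X]),
      φ = AdjoinRoot.of (X ^ e - C c : O[X]) := ⟨_, rfl⟩
  obtain ⟨t₀, ht₀def⟩ : ∃ t₀ : AdjoinRoot (X ^ e - C c : O[X]),
      t₀ = AdjoinRoot.root (X ^ e - C c : O[X]) := ⟨_, rfl⟩
  have ht₀ : t₀ ^ e = φ c := by
    have := AdjoinRoot.eval₂_root (X ^ e - C c : O[X])
    rw [eval₂_sub, eval₂_pow, eval₂_X, eval₂_C, sub_eq_zero] at this
    rw [ht₀def, hφ]
    exact this
  have hφc : φ c ∈ maximalIdeal (AdjoinRoot (X ^ e - C c : O[X])) := by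
    have hcm := Hens.comap_eq_maximalIdeal_of_isMaximal (R := O)
      (maximalIdeal (AdjoinRoot (X ^ e - C c : O[X])))
    have : c ∈ (maximalIdeal (AdjoinRoot (X ^ e - C c : O[X]))).comap
        (algebraMap O (AdjoinRoot (X ^ e - C c : O[X]))) := hcm ▸ hc
    rw [hφ]
    exact this
  have ht₀m : t₀ ∈ maximalIdeal (AdjoinRoot (X ^ e - C c : O[X])) :=
    (maximalIdeal.isMaximal _).isPrime.mem_of_pow_mem e (ht₀ ▸ hφc)
  have heu : IsUnit ((e : ℕ) : AdjoinRoot (X ^ e - C c : O[X])) := by
    have := (isUnit_natCast (A := O) p e hpe).map φ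
    simpa using this
  obtain ⟨z, hz⟩ := exists_root_perturb (A := AdjoinRoot (X ^ e - C c : O[X])) e (by omega) heu
    (fun i => φ (b i) * t₀ ^ i)
    (by simp only [hb0, pow_zero, mul_one, map_neg, map_one])
    (fun i hi => Ideal.mul_mem_left _ _ (Ideal.pow_mem_of_mem _ ht₀m i (by omega)))
  have hce : f.coeff e = 1 := hdeg ▸ hmon.coeff_natDegree
  have hy0 : f.eval₂ φ (t₀ * z) = 0 := by
    have h1 : f.eval₂ φ (t₀ * z) =
        (t₀ * z) ^ e + ∑ i ∈ Finset.range e, φ (f.coeff i) * (t₀ * z) ^ i := by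
      rw [eval₂_eq_sum_range, hdeg, Finset.sum_range_succ, hce, map_one, one_mul, add_comm]
    have h2 : (t₀ * z) ^ e + ∑ i ∈ Finset.range e, φ (f.coeff i) * (t₀ * z) ^ i =
        t₀ ^ e * (z ^ e + ∑ i ∈ Finset.range e, φ (b i) * t₀ ^ i * z ^ i) := by
      rw [mul_add, Finset.mul_sum, mul_pow]
      congr 1
      apply Finset.sum_congr rfl
      intro i hi
      rw [hb i (Finset.mem_range.1 hi), map_mul, ← ht₀]
      ring
    rw [h1, h2, hz, mul_zero]
  -- the Kummer field
  have Hirr : Irreducible (X ^ e - C (algebraMap O (FractionRing O) c) : (FractionRing O)[X]) :=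
    irreducible_X_pow_sub_C (FractionRing O) c hc hc2 e he0
  obtain ⟨ζ, hζ⟩ := exists_primitiveRoot (A := O) p e he0 hpe
  have hζK : IsPrimitiveRoot (algebraMap O (FractionRing O) ζ) e :=
    hζ.map_of_injective (IsFractionRing.injective O (FractionRing O))
  have hprim : (primitiveRoots e (FractionRing O)).Nonempty :=
    ⟨_, (mem_primitiveRoots (by omega)).2 hζK⟩
  have := Fact.mk Hirr
  have : IsSplittingField (FractionRing O)
      (AdjoinRoot (X ^ e - C (algebraMap O (FractionRing O) c) : (FractionRing O)[X]))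
      (X ^ e - C (algebraMap O (FractionRing O) c)) :=
    isSplittingField_AdjoinRoot_X_pow_sub_C hprim Hirr
  have hfinF := finrank_of_isSplittingField_X_pow_sub_C hprim Hirr
    (AdjoinRoot (X ^ e - C (algebraMap O (FractionRing O) c) : (FractionRing O)[X]))
  have : FiniteDimensional (FractionRing O)
      (AdjoinRoot (X ^ e - C (algebraMap O (FractionRing O) c) : (FractionRing O)[X])) :=
    IsSplittingField.finiteDimensional _ (X ^ e - C (algebraMap O (FractionRing O) c))
  have : IsGalois (FractionRing O)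
      (AdjoinRoot (X ^ e - C (algebraMap O (FractionRing O) c) : (FractionRing O)[X])) :=
    isGalois_of_isSplittingField_X_pow_sub_C hprim Hirr _
  have : IsCyclic ((AdjoinRoot (X ^ e - C (algebraMap O (FractionRing O) c) :
      (FractionRing O)[X])) ≃ₐ[FractionRing O]
      (AdjoinRoot (X ^ e - C (algebraMap O (FractionRing O) c) : (FractionRing O)[X]))) :=
    isCyclic_of_isSplittingField_X_pow_sub_C hprim Hirr _
  -- the map `O₀ → F`
  obtain ⟨ψ, hψof, hψroot⟩ : ∃ ψ : AdjoinRoot (X ^ e - C c : O[X]) →+*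
      AdjoinRoot (X ^ e - C (algebraMap O (FractionRing O) c) : (FractionRing O)[X]),
      (∀ x, ψ (φ x) = algebraMap (FractionRing O) _ (algebraMap O (FractionRing O) x)) ∧
      ψ t₀ = AdjoinRoot.root _ := by
    refine ⟨AdjoinRoot.lift ((algebraMap (FractionRing O) _).comp (algebraMap O (FractionRing O)))
      (AdjoinRoot.root _) ?_, ?_, ?_⟩
    · rw [eval₂_sub, eval₂_pow, eval₂_X, eval₂_C, RingHom.comp_apply, sub_eq_zero]
      exact root_X_pow_sub_C_pow e (algebraMap O (FractionRing O) c)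
    · intro x
      rw [hφ, AdjoinRoot.lift_of, RingHom.comp_apply]
    · rw [ht₀def, AdjoinRoot.lift_root]
  obtain ⟨α, hαdef⟩ : ∃ α : AdjoinRoot (X ^ e - C (algebraMap O (FractionRing O) c) :
      (FractionRing O)[X]), α = ψ (t₀ * z) := ⟨_, rfl⟩
  have hα : aeval α (f.map (algebraMap O (FractionRing O))) = 0 := by
    rw [aeval_def, eval₂_map]
    have : ((algebraMap (FractionRing O)
        (AdjoinRoot (X ^ e - C (algebraMap O (FractionRing O) c) : (FractionRing O)[X]))).comp
        (algebraMap O (FractionRing O))) = ψ.comp φ := by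
      ext x
      rw [RingHom.comp_apply, RingHom.comp_apply, hψof]
    rw [this, hαdef, ← hom_eval₂, hy0, map_zero]
  have hfKmon : (f.map (algebraMap O (FractionRing O))).Monic := hmon.map _
  have hfKirr : Irreducible (f.map (algebraMap O (FractionRing O))) :=
    irreducible_map_of_eisenstein (FractionRing O) f hmon (by omega) hf
  have hfKdeg : (f.map (algebraMap O (FractionRing O))).natDegree = e := by
    rw [hmon.natDegree_map, hdeg]
  have hmin : f.map (algebraMap O (FractionRing O)) = minpoly (FractionRing O) α :=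
    minpoly.eq_of_irreducible_of_monic hfKirr hα hfKmon
  have hsplit : ((f.map (algebraMap O (FractionRing O))).map (algebraMap (FractionRing O)
      (AdjoinRoot (X ^ e - C (algebraMap O (FractionRing O) c) : (FractionRing O)[X])))).Splits := by
    rw [hmin]
    exact Normal.splits inferInstance α
  have hint : IsIntegral (FractionRing O) α := IsIntegral.of_finite (FractionRing O) α
  have htop : (FractionRing O)⟮α⟯ = ⊤ := by
    apply IntermediateField.eq_of_le_of_finrank_eq le_top
    rw [IntermediateField.adjoin.finrank hint, ← hmin, IntermediateField.finrank_top', hfinF,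
      hfKdeg]
  have hadj : Algebra.adjoin (FractionRing O)
      ((f.map (algebraMap O (FractionRing O))).rootSet
        (AdjoinRoot (X ^ e - C (algebraMap O (FractionRing O) c) : (FractionRing O)[X]))) = ⊤ := by
    have h1 : Algebra.adjoin (FractionRing O) {α} = ⊤ := by
      rw [← IntermediateField.adjoin_simple_toSubalgebra_of_isAlgebraic hint.isAlgebraic, htop,
        IntermediateField.top_toSubalgebra]
    rw [eq_top_iff, ← h1]
    apply Algebra.adjoin_mono
    rw [Set.singleton_subset_iff, mem_rootSet]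
    exact ⟨hfKmon.ne_zero, hα⟩
  have : IsSplittingField (FractionRing O)
      (AdjoinRoot (X ^ e - C (algebraMap O (FractionRing O) c) : (FractionRing O)[X]))
      (f.map (algebraMap O (FractionRing O))) := ⟨hsplit, hadj⟩
  have E := IsSplittingField.algEquiv
    (AdjoinRoot (X ^ e - C (algebraMap O (FractionRing O) c) : (FractionRing O)[X]))
    (f.map (algebraMap O (FractionRing O)))
  refine ⟨by rw [← E.toLinearEquiv.finrank_eq, hfinF], ?_⟩
  exact isCyclic_of_surjective (AlgEquiv.autCongr E) (AlgEquiv.autCongr E).surjective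

theorem exists_kummer_field {K : Type u} [Field K] (L : ℕ) (ϖK : K)
    (Hirr : Irreducible (X ^ L - C ϖK : K[X])) :
    ∃ (F : Type u) (_ : Field F) (_ : Algebra K F) (_ : FiniteDimensional K F) (t : F),
      Algebra.adjoin K {t} = ⊤ ∧ Module.finrank K F = L ∧ t ^ L = algebraMap K F ϖK := by
  have := Fact.mk Hirr
  have hg0 : (X ^ L - C ϖK : K[X]) ≠ 0 := Hirr.ne_zero
  refine ⟨AdjoinRoot (X ^ L - C ϖK : K[X]), inferInstance, inferInstance,
    (AdjoinRoot.powerBasis hg0).finite, AdjoinRoot.root _, AdjoinRoot.adjoinRoot_eq_top, ?_,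
    root_X_pow_sub_C_pow L ϖK⟩
  rw [(AdjoinRoot.powerBasis hg0).finrank, AdjoinRoot.powerBasis_dim, natDegree_X_pow_sub_C]

set_option maxHeartbeats 800000 in
theorem kummer_finrank {K : Type u} [Field K] (L : ℕ) (hL0 : L ≠ 0) (ϖK : K) (hϖK0 : ϖK ≠ 0)
    (Hirr : Irreducible (X ^ L - C ϖK : K[X]))
    (m : ℕ) (r b : Fin m → ℕ) (hL : L = Finset.univ.lcm r) (hr0 : ∀ i, r i ≠ 0)
    (hrb : ∀ i, Nat.Coprime (r i) (b i))
    (wK : Fin m → K) (hwK0 : ∀ i, wK i ≠ 0) (ζK : Fin m → K)
    (hζ : ∀ i, IsPrimitiveRoot (ζK i) (r i)) :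
    Module.finrank K (∏ i, (X ^ (r i) - C (wK i ^ r i * ϖK ^ b i))).SplittingField = L := by
  classical
  have hrL : ∀ i, r i ∣ L := fun i => hL ▸ Finset.dvd_lcm (Finset.mem_univ i)
  obtain ⟨F, _, _, _, t, ht1, hfinF, htL⟩ := exists_kummer_field L ϖK Hirr
  have ht0 : t ≠ 0 := by
    intro h
    rw [h, zero_pow hL0] at htL
    exact hϖK0 ((map_eq_zero _).1 htL.symm)
  obtain ⟨n, hn⟩ : ∃ n : Fin m → ℕ, ∀ i, n i = L / r i * b i := ⟨_, fun _ => rfl⟩
  obtain ⟨y, hydef⟩ : ∃ y : Fin m → F,
      ∀ i, y i = algebraMap K _ (wK i) * t ^ n i := ⟨_, fun _ => rfl⟩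
  have hy : ∀ i, y i ^ r i = algebraMap K _ (wK i ^ r i * ϖK ^ b i) := by
    intro i
    have e1 : (t ^ n i) ^ r i = algebraMap K _ (ϖK ^ b i) := by
      have : n i * r i = L * b i := by
        rw [hn i, mul_right_comm, Nat.div_mul_cancel (hrL i)]
      rw [← pow_mul, this, pow_mul, htL, map_pow]
    rw [hydef i, mul_pow, e1]
    simp only [map_mul, map_pow]
  obtain ⟨P, hP⟩ : ∃ P : K[X], P = ∏ i, (X ^ (r i) - C (wK i ^ r i * ϖK ^ b i)) := ⟨_, rfl⟩
  have hPne : P ≠ 0 := by
    rw [hP]
    exact Finset.prod_ne_zero_iff.2 fun i _ => (monic_X_pow_sub_C _ (hr0 i)).ne_zero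
  have hroot : ∀ i, y i ∈ P.rootSet F := by
    intro i
    rw [mem_rootSet]
    refine ⟨hPne, ?_⟩
    rw [hP, map_prod]
    apply Finset.prod_eq_zero (Finset.mem_univ i)
    rw [map_sub, map_pow, aeval_X, aeval_C, hy i, sub_self]
  have hsplit : (P.map (algebraMap K F)).Splits := by
    rw [hP, Polynomial.map_prod]
    apply Splits.prod
    intro i _
    rw [Polynomial.map_sub, Polynomial.map_pow, map_X, map_C]
    exact X_pow_sub_C_splits_of_isPrimitiveRoot
      ((hζ i).map_of_injective (algebraMap K _).injective) (hy i)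
  have hadj : Algebra.adjoin K (P.rootSet F) = ⊤ := by
    obtain ⟨E, hE⟩ : ∃ E : IntermediateField K F,
        E = IntermediateField.adjoin K (P.rootSet F) := ⟨_, rfl⟩
    have hyE : ∀ i, y i ∈ E := fun i => hE ▸ IntermediateField.subset_adjoin _ _ (hroot i)
    let H : AddSubgroup ℤ :=
      { carrier := {k | t ^ k ∈ E}
        zero_mem' := by
          simp only [Set.mem_setOf_eq, zpow_zero]
          exact E.one_mem
        add_mem' := by
          intro a b ha hb
          simp only [Set.mem_setOf_eq] at ha hb ⊢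
          rw [zpow_add₀ ht0]
          exact E.mul_mem ha hb
        neg_mem' := by
          intro a ha
          simp only [Set.mem_setOf_eq] at ha ⊢
          rw [zpow_neg]
          exact E.inv_mem ha }
    have hHmem : ∀ k : ℤ, k ∈ H ↔ t ^ k ∈ E := fun k => Iff.rfl
    have hLH : (L : ℤ) ∈ H := by
      rw [hHmem, zpow_natCast, htL]
      exact E.algebraMap_mem _
    have hnH : ∀ i, (n i : ℤ) ∈ H := by
      intro i
      rw [hHmem, zpow_natCast]
      have hw0 : algebraMap K F (wK i) ≠ 0 :=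
        (map_ne_zero_iff _ (algebraMap K _).injective).2 (hwK0 i)
      have : t ^ n i = (algebraMap K F (wK i))⁻¹ * y i := by
        rw [hydef i, inv_mul_cancel_left₀ hw0]
      rw [this]
      exact E.mul_mem (E.inv_mem (E.algebraMap_mem _)) (hyE i)
    have hqH : ∀ i, ((L / r i : ℕ) : ℤ) ∈ H := by
      intro i
      have hbez := Int.gcd_eq_gcd_ab (r i) (b i)
      have hcop : ((Int.gcd (r i) (b i) : ℕ) : ℤ) = 1 := by
        rw [Int.gcd_natCast_natCast]
        exact_mod_cast hrb i
      rw [hcop] at hbez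
      have h1 : ((L / r i : ℕ) : ℤ) * (r i : ℤ) = L := by
        exact_mod_cast Nat.div_mul_cancel (hrL i)
      have h2 : ((n i : ℕ) : ℤ) = ((L / r i : ℕ) : ℤ) * (b i : ℤ) := by
        rw [hn i]
        push_cast
        ring
      have : ((L / r i : ℕ) : ℤ) =
          Int.gcdA (r i) (b i) • (L : ℤ) + Int.gcdB (r i) (b i) • (n i : ℤ) := by
        rw [smul_eq_mul, smul_eq_mul, h2, ← h1]
        linear_combination ((L / r i : ℕ) : ℤ) * hbez
      rw [this]
      exact H.add_mem (H.zsmul_mem hLH _) (H.zsmul_mem (hnH i) _)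
    obtain ⟨d, hd⟩ := Int.subgroup_cyclic H
    have hmemd : ∀ k : ℤ, k ∈ H ↔ d ∣ k := by
      intro k
      rw [hd, AddSubgroup.mem_closure_singleton]
      constructor
      · rintro ⟨n, rfl⟩
        exact ⟨n, by rw [smul_eq_mul, mul_comm]⟩
      · rintro ⟨n, rfl⟩
        exact ⟨n, by rw [smul_eq_mul, mul_comm]⟩
    have hdL : d.natAbs ∣ L :=
      Int.natCast_dvd_natCast.1 (Int.natAbs_dvd.2 ((hmemd L).1 hLH))
    have hdq : ∀ i, d.natAbs ∣ L / r i := fun i =>
      Int.natCast_dvd_natCast.1 (Int.natAbs_dvd.2 ((hmemd _).1 (hqH i)))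
    have hd'pos : 0 < d.natAbs := Nat.pos_of_dvd_of_pos hdL (Nat.pos_of_ne_zero hL0)
    have hrd : ∀ i, r i ∣ L / d.natAbs := by
      intro i
      obtain ⟨q, hq⟩ := hdq i
      refine ⟨q, ?_⟩
      apply Nat.div_eq_of_eq_mul_right hd'pos
      calc L = r i * (L / r i) := (Nat.mul_div_cancel' (hrL i)).symm
        _ = r i * (d.natAbs * q) := by rw [hq]
        _ = d.natAbs * (r i * q) := by ring
    have hLdvd : L ∣ L / d.natAbs := by
      have : Finset.univ.lcm r ∣ L / d.natAbs := Finset.lcm_dvd fun i _ => hrd i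
      rwa [← hL] at this
    have hd1 : d.natAbs = 1 := by
      have hpos : 0 < L / d.natAbs :=
        Nat.div_pos (Nat.le_of_dvd (Nat.pos_of_ne_zero hL0) hdL) hd'pos
      have h1 : L ≤ L / d.natAbs := Nat.le_of_dvd hpos hLdvd
      have h2 : L / d.natAbs * d.natAbs = L := Nat.div_mul_cancel hdL
      have h3 : L * d.natAbs ≤ L * 1 := by
        calc L * d.natAbs ≤ L / d.natAbs * d.natAbs := Nat.mul_le_mul_right _ h1
          _ = L * 1 := by rw [h2, mul_one]
      have := Nat.le_of_mul_le_mul_left h3 (Nat.pos_of_ne_zero hL0)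
      omega
    have h1H : (1 : ℤ) ∈ H := by
      rw [hmemd]
      exact Int.natAbs_dvd_natAbs.1 (by rw [hd1]; exact one_dvd _)
    have htE : t ∈ E := by
      have := (hHmem 1).1 h1H
      rwa [zpow_one] at this
    have h1 : Algebra.adjoin K {t} = ⊤ := ht1
    rw [eq_top_iff, ← h1, ← IntermediateField.adjoin_toSubalgebra (F := K)
      (P.rootSet F), ← hE]
    exact Algebra.adjoin_le (Set.singleton_subset_iff.2 htE)
  have : IsSplittingField K F P := ⟨hsplit, hadj⟩
  have E := IsSplittingField.algEquiv F P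
  rw [← hP, ← E.toLinearEquiv.finrank_eq, hfinF]

theorem main52 (O : Type u) [CommRing O] [IsDomain O]
    [IsDiscreteValuationRing O] [HenselianLocalRing O]
    [IsAlgClosed (IsLocalRing.ResidueField O)]
    (p : ℕ) [Fact p.Prime] [CharP (IsLocalRing.ResidueField O) p]
    (ϖ : O) (hϖ : Irreducible ϖ) (m : ℕ) (r b : Fin m → ℕ) (v : Fin m → Oˣ)
    (hr : ∀ i, 1 ≤ r i) (hrb : ∀ i, Nat.Coprime (r i) (b i)) (hp : ∑ i, r i < p) :
    Module.finrank (FractionRing O)
        (∏ i, (X ^ (r i) - C (algebraMap O (FractionRing O) ((v i : O) * ϖ ^ (b i))))).SplittingField =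
      Finset.univ.lcm r := by
  classical
  have hιinj : Function.Injective (algebraMap O (FractionRing O)) :=
    IsFractionRing.injective O (FractionRing O)
  have hri : ∀ i, r i < p := fun i =>
    lt_of_le_of_lt (Finset.single_le_sum (f := r) (fun _ _ => Nat.zero_le _) (Finset.mem_univ i)) hp
  have hr0 : ∀ i, r i ≠ 0 := fun i => by have := hr i; omega
  have hpr : ∀ i, ¬ p ∣ r i := fun i h => by
    have := Nat.le_of_dvd (hr i) h
    have := hri i
    omega
  have hL0 : Finset.univ.lcm r ≠ 0 := by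
    rw [Ne, Finset.lcm_eq_zero_iff]
    rintro ⟨i, -, hi⟩
    exact hr0 i hi
  have hϖm : ϖ ∈ maximalIdeal O := (mem_maximalIdeal ϖ).2 hϖ.not_isUnit
  have hϖ2 := notMem_sq_of_irreducible ϖ hϖ
  have Hirr := irreducible_X_pow_sub_C (FractionRing O) ϖ hϖm hϖ2 (Finset.univ.lcm r) hL0
  have hϖK0 : algebraMap O (FractionRing O) ϖ ≠ 0 := (map_ne_zero_iff _ hιinj).2 hϖ.ne_zero
  have hw : ∀ i, ∃ w : O, w ^ r i = (v i : O) := fun i =>
    exists_root_unit (A := O) p (r i) (hr0 i) (hpr i) (v i) (v i).isUnit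
  choose w hw using hw
  have hζ : ∀ i, ∃ ζ : O, IsPrimitiveRoot ζ (r i) := fun i =>
    exists_primitiveRoot (A := O) p (r i) (hr0 i) (hpr i)
  choose ζ hζ using hζ
  have hwi : ∀ i, w i ≠ 0 := by
    intro i h
    have h' := hw i
    rw [h, zero_pow (hr0 i)] at h'
    exact (v i).ne_zero h'.symm
  have key := kummer_finrank (K := FractionRing O) (Finset.univ.lcm r) hL0
    (algebraMap O (FractionRing O) ϖ) hϖK0 Hirr m r b rfl hr0 hrb
    (fun i => algebraMap O (FractionRing O) (w i))
    (fun i => (map_ne_zero_iff _ hιinj).2 (hwi i))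
    (fun i => algebraMap O (FractionRing O) (ζ i))
    (fun i => (hζ i).map_of_injective hιinj)
  have hPeq : (∏ i, (X ^ (r i) - C (algebraMap O (FractionRing O) ((v i : O) * ϖ ^ (b i)))) :
      (FractionRing O)[X]) =
      ∏ i, (X ^ (r i) - C ((fun i => algebraMap O (FractionRing O) (w i)) i ^ r i *
        (algebraMap O (FractionRing O) ϖ) ^ b i)) := by
    apply Finset.prod_congr rfl
    intro i _
    simp only [← hw i, map_mul, map_pow]
  rw [hPeq]
  exact key

end Groth.Agent.H8.Tame
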